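import Mathlib
import Cfsg.Agent.Lib.Helper8.PG.Defs
import Cfsg.Agent.Lib.Helper40.SympCenter

/-!
# S2474 (Helper8.PG project): package [PSP2] `PkgPSp2`

Elements of order `2 s` in `PSp_{2n}(q)`: the centre of `Sp_{2n}(q)` is `± 1`.
-/

set_option autoImplicit false

namespace Cfsg.Agent.Lib.Helper86.PG

open Cfsg.Agent.Lib.Helper8.PG Matrix

universe u

/-- A power of the image of `S` in `PSp` is trivial iff the power of `S` is `± 1`. -/
theorem psp_mk_pow_eq_one_iff {F : Type u} [Field F] (n : ℕ) (hn : 1 ≤ n)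
    (S : Matrix.symplecticGroup (Fin n) F) (j : ℕ) :
    ((QuotientGroup.mk S : Cfsg.PSp n F) ^ j = 1) ↔ (S.1 ^ j = 1 ∨ S.1 ^ j = -1) := by
  rw [← QuotientGroup.mk_pow, QuotientGroup.eq_one_iff]
  constructor
  · intro hcen
    obtain ⟨a, ha, hz⟩ := Cfsg.Agent.Lib.Helper40.center_scalar n hn _ hcen
    have ha' : a = 1 ∨ a = -1 := by
      have h0 : (a - 1) * (a + 1) = 0 := by
        have : (a - 1) * (a + 1) = a * a - 1 := by ring
        rw [this, ha, sub_self]
      rcases mul_eq_zero.1 h0 with h | h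
      · left; exact sub_eq_zero.1 h
      · right; exact eq_neg_of_add_eq_zero_left h
    rw [SubmonoidClass.coe_pow] at hz
    rcases ha' with rfl | rfl
    · left; rw [hz, one_smul]
    · right; rw [hz, neg_smul, one_smul]
  · rintro (h | h)
    · have h1 : S ^ j = 1 := Subtype.ext (by rw [SubmonoidClass.coe_pow]; exact h)
      rw [h1]
      exact Subgroup.one_mem _
    · rw [Subgroup.mem_center_iff]
      intro g
      apply Subtype.ext
      rw [Submonoid.coe_mul, Submonoid.coe_mul, SubmonoidClass.coe_pow, h, mul_neg, mul_one,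
        neg_mul, one_mul]

/-- [PSP2] -/
theorem pkgPSp2 : PkgPSp2.{u} := by
  intro F _ _ _ n hn s hs hs2
  have hs3 : 3 ≤ s := by
    have := hs.two_le
    omega
  constructor
  · rintro ⟨g, hg⟩
    obtain ⟨S, rfl⟩ := QuotientGroup.mk_surjective g
    refine ⟨S, ?_, ?_, ?_⟩
    · rw [← psp_mk_pow_eq_one_iff n hn]
      have := pow_orderOf_eq_one (QuotientGroup.mk S : Cfsg.PSp n F)
      rw [hg] at this
      exact this
    · rw [← psp_mk_pow_eq_one_iff n hn]
      intro h
      have h1 := orderOf_dvd_of_pow_eq_one h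
      rw [hg] at h1
      have h2 := Nat.le_of_dvd (by norm_num) h1
      omega
    · rw [← psp_mk_pow_eq_one_iff n hn]
      intro h
      have h1 := orderOf_dvd_of_pow_eq_one h
      rw [hg] at h1
      have h2 := Nat.le_of_dvd (by omega) h1
      omega
  · rintro ⟨S, h1, h2, h3⟩
    rw [← psp_mk_pow_eq_one_iff n hn] at h1 h2 h3
    refine ⟨QuotientGroup.mk S, ?_⟩
    have hd := orderOf_dvd_of_pow_eq_one h1
    obtain ⟨d₁, d₂, hd₁, hd₂, hd12⟩ := Nat.dvd_mul.1 hd
    have e1 : d₁ = 1 ∨ d₁ = 2 := (Nat.dvd_prime Nat.prime_two).1 hd₁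
    have e2 : d₂ = 1 ∨ d₂ = s := (Nat.dvd_prime hs).1 hd₂
    rcases e1 with rfl | rfl <;> rcases e2 with rfl | rfl
    · exact absurd (orderOf_dvd_iff_pow_eq_one.1 (by rw [← hd12]; norm_num)) h2
    · exact absurd (orderOf_dvd_iff_pow_eq_one.1 (by rw [← hd12, one_mul])) h3
    · exact absurd (orderOf_dvd_iff_pow_eq_one.1 (by rw [← hd12, mul_one])) h2
    · exact hd12.symm

end Cfsg.Agent.Lib.Helper86.PG
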