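import Mathlib
import Cfsg.Agent.Lib.Helper8.PG.Defs
import Cfsg.Agent.Lib.Helper40.PSpRS
import Cfsg.Agent.Lib.Helper40.SpPrimeOrder

/-!
# S2474 (Helper8.PG project): package [ORD] `PkgOrd`

Two semisimple matrices whose characteristic polynomials differ by a power of `X - 1` have the
same trivial powers.
-/

set_option autoImplicit false

namespace Cfsg.Agent.Lib.Helper86.PG

open Cfsg.Agent.Lib.Helper8.PG Matrix Polynomial

universe u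

/-- If every irreducible factor of `f ≠ 0` divides `Q`, then `f` divides a power of `Q`. -/
theorem dvd_pow_of_irreducible_dvd {F : Type u} [Field F] (Q f : F[X]) :
    f ≠ 0 → (∀ π : F[X], Irreducible π → π ∣ f → π ∣ Q) → ∃ m : ℕ, f ∣ Q ^ m := by
  refine UniqueFactorizationMonoid.induction_on_prime
    (P := fun f : F[X] => f ≠ 0 → (∀ π : F[X], Irreducible π → π ∣ f → π ∣ Q) →
      ∃ m : ℕ, f ∣ Q ^ m) f ?_ ?_ ?_
  · intro h
    exact absurd rfl h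
  · intro x hx _ _
    exact ⟨0, hx.dvd⟩
  · intro a p ha hp ih _ hirr
    obtain ⟨m, hm⟩ := ih ha (fun π hπ hdvd => hirr π hπ (dvd_mul_of_dvd_right hdvd p))
    have hpQ : p ∣ Q := hirr p hp.irreducible (dvd_mul_right p a)
    exact ⟨m + 1, by rw [pow_succ']; exact mul_dvd_mul hpQ hm⟩

/-- One direction of [ORD]. -/
theorem ord_aux {F : Type u} [Field F] {ι₁ ι₂ : Type} [Fintype ι₁] [DecidableEq ι₁] [Fintype ι₂]
    [DecidableEq ι₂] (M₁ : Matrix ι₁ ι₁ F) (M₂ : Matrix ι₂ ι₂ F) (N₂ : ℕ)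
    (hN₂ : (N₂ : F) ≠ 0) (hM₂ : M₂ ^ N₂ = 1) (a b : ℕ)
    (f₀ : F[X]) (hc₁ : M₁.charpoly = (X - C 1) ^ a * f₀) (hc₂ : M₂.charpoly = (X - C 1) ^ b * f₀)
    (j : ℕ) (h : M₁ ^ j = 1) : M₂ ^ j = 1 := by
  classical
  have haev : aeval M₁ (X ^ j - 1 : F[X]) = 0 := by
    rw [map_sub, map_pow, aeval_X, map_one, h, sub_self]
  have hf₀ : f₀ ≠ 0 := by
    intro h0
    have h1 := Matrix.charpoly_monic M₂
    rw [hc₂, h0, mul_zero] at h1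
    exact Polynomial.Monic.ne_zero h1 rfl
  have hirr : ∀ π : F[X], Irreducible π → π ∣ f₀ → π ∣ (X ^ j - 1 : F[X]) := by
    intro π hπ hdvd
    apply Cfsg.Agent.Lib.Helper40.PSpRS.irr_dvd_of_aeval M₁ _ haev π hπ
    rw [hc₁]
    exact dvd_mul_of_dvd_right hdvd _
  obtain ⟨m, hm⟩ := dvd_pow_of_irreducible_dvd (X ^ j - 1 : F[X]) f₀ hf₀ hirr
  have hX : (X - C 1 : F[X]) ∣ X ^ j - 1 := by
    have h1 := sub_dvd_pow_sub_pow (X : F[X]) 1 j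
    rw [one_pow] at h1
    rw [map_one]
    exact h1
  have hdvd : M₂.charpoly ∣ (X ^ j - 1 : F[X]) ^ (b + m) := by
    rw [hc₂, pow_add]
    exact mul_dvd_mul (pow_dvd_pow_of_dvd hX b) hm
  exact Cfsg.Agent.Lib.Helper40.SpExist.pow_eq_one_of_charpoly_dvd' M₂ N₂ hN₂ hM₂ j (b + m)
    hdvd

/-- [ORD] -/
theorem pkgOrd : PkgOrd.{u} := by
  intro F _ ι₁ ι₂ _ _ _ _ M₁ M₂ N₁ N₂ hN₁ hN₂ hM₁ hM₂ a b f₀ hc₁ hc₂ j
  exact ⟨ord_aux M₁ M₂ N₂ hN₂ hM₂ a b f₀ hc₁ hc₂ j, ord_aux M₂ M₁ N₁ hN₁ hM₁ b a f₀ hc₂ hc₁ j⟩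

end Cfsg.Agent.Lib.Helper86.PG
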