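import Mathlib
import Cfsg.Agent.Lib.Helper8.PG.Defs

/-!
# S2474 (Helper8.PG project): package [SP2P] `PkgSp2p`

`Sp_{2n}(q)` (`q` odd, `n ≥ 2`) has an element whose image in `PSp_{2n}(q)` has order `2 p`:
`S = [[ε, E], [0, ε]]` with `ε = diag(-1, 1, …, 1)` and `E` the matrix unit at `(1, 1)`.
-/

set_option autoImplicit false

namespace Cfsg.Agent.Lib.Helper86.PG

open Cfsg.Agent.Lib.Helper8.PG Matrix

universe u

section model

variable {F : Type u} [Field F] {l : Type} [Fintype l] [DecidableEq l]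

/-- `ε`: the diagonal matrix with `-1` at `i₀` and `1` elsewhere. -/
def epsM (F : Type u) [Field F] (i₀ : l) : Matrix l l F :=
  Matrix.diagonal (fun i => if i = i₀ then -1 else 1)

/-- `E`: the matrix unit at `(i₁, i₁)`. -/
def eM (F : Type u) [Field F] (i₁ : l) : Matrix l l F := Matrix.single i₁ i₁ 1

/-- The unipotent matrix `[[1, c E], [0, 1]]`. -/
def uM (i₁ : l) (c : F) : Matrix (l ⊕ l) (l ⊕ l) F :=
  Matrix.fromBlocks 1 (c • eM F i₁) 0 1

/-- The matrix `[[ε, E], [0, ε]]`. -/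
def sM (F : Type u) [Field F] (i₀ i₁ : l) : Matrix (l ⊕ l) (l ⊕ l) F :=
  Matrix.fromBlocks (epsM F i₀) (eM F i₁) 0 (epsM F i₀)

theorem epsM_mul_self (i₀ : l) : epsM F i₀ * epsM F i₀ = 1 := by
  unfold epsM
  rw [Matrix.diagonal_mul_diagonal, ← Matrix.diagonal_one]
  congr 1
  funext i
  split_ifs <;> simp

theorem epsM_transpose (i₀ : l) : (epsM F i₀)ᵀ = epsM F i₀ := Matrix.diagonal_transpose _

theorem eM_transpose (i₁ : l) : (eM F i₁)ᵀ = eM F i₁ := by
  unfold eM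
  ext i j
  simp only [Matrix.transpose_apply, Matrix.single_apply]
  by_cases h1 : i₁ = i <;> by_cases h2 : i₁ = j <;> simp [h1, h2]

theorem epsM_mul_eM {i₀ i₁ : l} (h : i₀ ≠ i₁) : epsM F i₀ * eM F i₁ = eM F i₁ := by
  unfold epsM eM
  ext i j
  rw [Matrix.diagonal_mul, Matrix.single_apply]
  by_cases h1 : i₁ = i
  · subst h1
    rw [if_neg (Ne.symm h), one_mul]
  · simp [h1]

theorem eM_mul_epsM {i₀ i₁ : l} (h : i₀ ≠ i₁) : eM F i₁ * epsM F i₀ = eM F i₁ := by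
  unfold epsM eM
  ext i j
  rw [Matrix.mul_diagonal, Matrix.single_apply]
  by_cases h1 : i₁ = j
  · subst h1
    rw [if_neg (Ne.symm h), mul_one]
  · simp [h1]

theorem sM_mem {i₀ i₁ : l} (h : i₀ ≠ i₁) : sM F i₀ i₁ ∈ Matrix.symplecticGroup l F := by
  rw [SymplecticGroup.mem_iff]
  unfold sM Matrix.J
  rw [Matrix.fromBlocks_transpose, Matrix.fromBlocks_multiply, Matrix.fromBlocks_multiply,
    epsM_transpose, eM_transpose]
  simp [epsM_mul_self, epsM_mul_eM h, eM_mul_epsM h]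

theorem uM_mul (i₁ : l) (c d : F) : uM i₁ c * uM i₁ d = uM i₁ (c + d) := by
  unfold uM
  rw [Matrix.fromBlocks_multiply]
  simp [add_smul, add_comm]

theorem uM_zero (i₁ : l) : uM i₁ (0 : F) = 1 := by
  unfold uM
  rw [zero_smul, Matrix.fromBlocks_one]

theorem uM_pow (i₁ : l) (c : F) (j : ℕ) : uM i₁ c ^ j = uM i₁ ((j : F) * c) := by
  induction j with
  | zero => rw [pow_zero, Nat.cast_zero, zero_mul, uM_zero]
  | succ j ih =>
    rw [pow_succ, ih, uM_mul]
    congr 1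
    push_cast
    ring

theorem sM_sq {i₀ i₁ : l} (h : i₀ ≠ i₁) : sM F i₀ i₁ * sM F i₀ i₁ = uM i₁ (2 : F) := by
  unfold sM uM
  rw [Matrix.fromBlocks_multiply]
  simp [epsM_mul_self, epsM_mul_eM h, eM_mul_epsM h, two_smul]

theorem uM_mul_sM {i₀ i₁ : l} (h : i₀ ≠ i₁) (c : F) :
    uM i₁ c * sM F i₀ i₁ = Matrix.fromBlocks (epsM F i₀) ((1 + c) • eM F i₁) 0 (epsM F i₀) := by
  unfold sM uM
  rw [Matrix.fromBlocks_multiply]
  simp [eM_mul_epsM h, add_smul]

end model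

/-- [SP2P] `PSp_{2n}(q)` has an element of order `2 p`. -/
theorem pkgSp2p : PkgSp2p.{u} := by
  intro F _ _ hodd p _ _ n hn
  have h2 : (2 : F) ≠ 0 := by
    apply Ring.two_ne_zero
    intro h
    rw [FiniteField.even_card_iff_char_two] at h
    rw [Nat.odd_iff] at hodd
    omega
  have hpF : (p : F) = 0 := CharP.cast_eq_zero F p
  have hp2 : p ≠ 2 := by
    intro h
    apply h2
    rw [h] at hpF
    exact_mod_cast hpF
  obtain ⟨j, hj⟩ : ∃ j, p = 2 * j + 1 := by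
    rcases (Fact.out : p.Prime).eq_two_or_odd' with h | h
    · exact absurd h hp2
    · exact h
  have h01 : (⟨0, by omega⟩ : Fin n) ≠ ⟨1, by omega⟩ := by
    intro h
    simp [Fin.ext_iff] at h
  generalize (⟨0, by omega⟩ : Fin n) = i₀ at h01
  generalize (⟨1, by omega⟩ : Fin n) = i₁ at h01
  have hsq : sM F i₀ i₁ ^ 2 = uM i₁ (2 : F) := by rw [pow_two, sM_sq h01]
  have hone : (1 : F) ≠ -1 := by
    intro h
    apply h2
    have : (2 : F) = 1 + 1 := by norm_num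
    rw [this]
    nth_rewrite 1 [h]
    ring
  refine ⟨⟨sM F i₀ i₁, sM_mem h01⟩, Or.inl ?_, ?_, ?_⟩
  · show sM F i₀ i₁ ^ (2 * p) = 1
    rw [pow_mul, hsq, uM_pow, hpF, zero_mul, uM_zero]
  · show ¬ (sM F i₀ i₁ ^ 2 = 1 ∨ sM F i₀ i₁ ^ 2 = -1)
    rw [hsq]
    rintro (h | h)
    · have h3 := congrFun (congrFun h (Sum.inl i₁)) (Sum.inr i₁)
      simp [uM, eM] at h3
      exact h2 h3
    · have h3 := congrFun (congrFun h (Sum.inl i₁)) (Sum.inl i₁)
      simp [uM] at h3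
      exact hone h3
  · show ¬ (sM F i₀ i₁ ^ p = 1 ∨ sM F i₀ i₁ ^ p = -1)
    have hp : sM F i₀ i₁ ^ p = Matrix.fromBlocks (epsM F i₀) 0 0 (epsM F i₀) := by
      rw [hj, pow_succ, pow_mul, hsq, uM_pow, uM_mul_sM h01]
      have : (1 : F) + ((j : ℕ) : F) * 2 = 0 := by
        rw [← hpF, hj]
        push_cast
        ring
      rw [this, zero_smul]
    rw [hp]
    rintro (h | h)
    · have h3 := congrFun (congrFun h (Sum.inl i₀)) (Sum.inl i₀)
      simp [epsM] at h3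
      exact hone h3.symm
    · have h3 := congrFun (congrFun h (Sum.inl i₁)) (Sum.inl i₁)
      simp [epsM, Ne.symm h01] at h3
      exact hone h3

end Cfsg.Agent.Lib.Helper86.PG
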